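import Cfsg.Agent.H520.RC.SpId
import Cfsg.Agent.H206.PspFix

/-!
# S3510, row D (symplectic groups): the environment exists (helper194)

* `exists_rho` : the homomorphism `Sp B →* G`, and the lifts of the elements induced by semisimilitudes;
* `exists_spEnv` : `PSp_{2m}(F)`, `m ≥ 3` or `F` of odd characteristic.
-/

set_option autoImplicit false
open Cfsg

namespace Cfsg.Agent.H194.RC

open MulAction Module Cfsg.Agent.H106.RC Cfsg.Agent.H520.RC
open Cfsg.Agent.ClassicalGeometry.SympAutSemi Cfsg.Agent.ClassicalGeometry.SympBasic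

theorem nalt_symp (m : ℕ) (F : Type*) [Field F] : NAlt (sympBilin m F) where
  alt := fun x => sympForm_self x
  nd := fun x h => by
    refine eq_zero_of_forall_sympForm_right fun y => ?_
    have h1 := h y
    change sympForm m F x y = 0 at h1
    exact h1

/-- the homomorphism `Sp B →* G` for `N ≅ PSp`, and the lifts of the elements of `G` induced by semisimilitudes -/
theorem exists_rho {m : ℕ} {F : Type*} [Field F] {G : Type*} [Group G] {N : Subgroup G} (e : N ≃* PSp m F) :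
    ∃ ρ : ↥(Sp (sympBilin m F)) →* G, ρ.range = N ∧ (∀ t : ↥(Sp (sympBilin m F)), ρ t = 1 ↔ ∃ a : F, ∀ v, t.1 v = a • v) ∧
      (∀ (A : Matrix.symplecticGroup (Fin m) F) (t : ↥(Sp (sympBilin m F))), (∀ v, t.1 v = rho m F A v) →
        ρ t = ((e.symm (QuotientGroup.mk A) : N) : G)) ∧
      ∀ (x : G) (g : semiSim m F), (∀ n : N, ((e.symm (Psi m F g (e n)) : N) : G) = x * n * x⁻¹) →
        ∃ M : SS (sympBilin m F), (∀ v, M v = g.1 v) ∧ Lf ρ x M := by
  obtain ⟨s, hs1⟩ : ∃ s : Matrix.symplecticGroup (Fin m) F ≃* Sp (sympBilin m F), ∀ A v, (s A).1 v = rho m F A v :=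
    ⟨MulEquiv.ofBijective (spHom (LinearEquiv.refl F _) fun _ _ => rfl) (spHom_bijective _ _), fun A v => rfl⟩
  obtain ⟨ρ, hρ⟩ : ∃ ρ : ↥(Sp (sympBilin m F)) →* G, ∀ A, ρ (s A) = ((e.symm (QuotientGroup.mk A) : N) : G) :=
    ⟨N.subtype.comp (e.symm.toMonoidHom.comp ((QuotientGroup.mk' _).comp s.symm.toMonoidHom)), fun A => by
      change ((e.symm (QuotientGroup.mk (s.symm (s A))) : N) : G) = _
      rw [s.symm_apply_apply]⟩
  refine ⟨ρ, ?_, ?_, ?_, ?_⟩
  · ext x
    constructor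
    · rintro ⟨t, rfl⟩
      obtain ⟨A, rfl⟩ := s.surjective t
      rw [hρ]
      exact (e.symm (QuotientGroup.mk A)).2
    · intro hx
      obtain ⟨A, hA⟩ := QuotientGroup.mk_surjective (e ⟨x, hx⟩)
      refine ⟨s A, ?_⟩
      rw [hρ, hA, e.symm_apply_apply]
  · intro t
    rw [← mem_center_Sp (nalt_symp m F)]
    obtain ⟨A, rfl⟩ := s.surjective t
    rw [hρ]
    have h1 : (((e.symm (QuotientGroup.mk A) : N) : G) = 1) ↔ A ∈ Subgroup.center (Matrix.symplecticGroup (Fin m) F) := by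
      rw [← QuotientGroup.eq_one_iff]
      constructor
      · intro h
        have h2 : e.symm (QuotientGroup.mk A) = 1 := Subtype.ext h
        have h3 := congrArg e h2
        rwa [e.apply_symm_apply, map_one] at h3
      · intro h
        rw [h, map_one]
        rfl
    rw [h1, Subgroup.mem_center_iff, Subgroup.mem_center_iff]
    constructor
    · intro h t
      obtain ⟨C, rfl⟩ := s.surjective t
      rw [← map_mul, ← map_mul, h C]
    · intro h C
      apply s.injective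
      rw [map_mul, map_mul, h]
  · intro A t h
    have h1 : t = s A := Subtype.ext (LinearEquiv.ext fun v => by rw [h, hs1])
    rw [h1, hρ]
  · intro x g hα
    obtain ⟨σ, l, hl, hg⟩ := id g.2
    refine ⟨⟨⟨g.1, hg.1⟩, σ, l, hl, hg.2.1, hg.2.2⟩, fun v => rfl, fun t => ?_⟩
    obtain ⟨A, rfl⟩ := s.surjective t
    rw [hρ, ← hα, e.apply_symm_apply, Psi_mk, ← hρ]
    congr 1
    symm
    apply SS.cj_eq
    intro v
    rw [hs1, hs1, rho_conjHom]
    change g.1 (rho m F A (g.1.symm (g.1 v))) = g.1 (rho m F A v)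
    rw [Equiv.symm_apply_apply]

theorem exists_spEnv_of {m : ℕ} (hm : 2 ≤ m) {F : Type} [Field F] [Finite F] {G Ω : Type} [Group G] [MulAction G Ω]
    {N : Subgroup G} (hE : Env G Ω N) (e : N ≃* PSp m F)
    (hs : ∀ x : MulAut (PSp m F), (∃ y : G, ∀ n : N, ((e.symm (x (e n)) : N) : G) = y * n * y⁻¹) →
      ∃ g : semiSim m F, Psi m F g = x) :
    ∃ ρ : ↥(Sp (sympBilin m F)) →* G, SpEnv Ω N ρ := by
  have hnorm := hE.norm
  obtain ⟨ρ, h1, h2, -, h3⟩ := exists_rho e
  refine ⟨ρ, hE, nalt_symp m F, h1, h2, fun x => ?_, ?_⟩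
  · obtain ⟨α, hα⟩ : ∃ α : MulAut (PSp m F), ∀ n : N, ((e.symm (α (e n)) : N) : G) = x * n * x⁻¹ :=
      ⟨MulAut.congr e (MulAut.conjNormal x), fun n => by
        have h1 : MulAut.congr e (MulAut.conjNormal x) (e n) = e (MulAut.conjNormal x n) := by
          simp [MulAut.congr]
        rw [h1, e.symm_apply_apply, MulAut.conjNormal_apply]⟩
    obtain ⟨g, rfl⟩ := hs α ⟨x, hα⟩
    obtain ⟨M, -, hM⟩ := h3 x g hα
    exact ⟨M, hM⟩
  · rw [Module.finrank_fintype_fun_eq_card, Fintype.card_sum, Fintype.card_fin]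
    omega

/-- **D11: the environment.** -/
theorem exists_spEnv {m : ℕ} (hm : 2 ≤ m) {F : Type} [Field F] [Fintype F] (h3 : m = 2 → 3 ≤ Fintype.card F)
    (hodd : 3 ≤ m ∨ (2 : F) ≠ 0) {G Ω : Type} [Group G] [Finite G] [MulAction G Ω] {N : Subgroup G}
    (hE : Env G Ω N) (e : N ≃* PSp m F) :
    ∃ (B : LinearMap.BilinForm F (Fin m ⊕ Fin m → F)) (ρ : ↥(Sp B) →* G), SpEnv Ω N ρ := by
  obtain ⟨ρ, h⟩ := exists_spEnv_of hm hE e fun x _ => Cfsg.Agent.H206.PspFix.mem_range_Psi hm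
    (by rwa [Nat.card_eq_fintype_card]) x (Or.inl hodd)
  exact ⟨_, ρ, h⟩

end Cfsg.Agent.H194.RC
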